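/-
Interface: BG section 3 in the ambient language of CF.BG
(`pLen1_comm_of_zGrp`, `PrimeAct.comm_le_F`, `Frob.primeAct`, `Frob.wielandt`).
-/
import Cfsg.Agent.BG.Sec3a
import Cfsg.Agent.BG2.I3a
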