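import Cfsg.Agent.BG2.I3a
import Cfsg.Agent.Solv.Symplectic

/-! Frobenius complements and extraspecial groups in the ambient language. -/

set_option autoImplicit false

namespace CF.BG2

open Subgroup CF.BG

variable {G : Type*} [Group G] [Finite G] {F P : Subgroup G} {p : ℕ}

theorem frob_amb {H : Subgroup F} (hH : Cfsg.IsFrobeniusComplement H) :
    ∃ K : Subgroup G, (K : Set G) = Subtype.val '' Cfsg.frobeniusKernel H ∧
      ♯K = Nat.card (Cfsg.frobeniusKernel H) ∧ Frob K (H.map F.subtype) F := by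
  obtain ⟨K, h1, h2, h3, h4, h5⟩ := CF.Coprime.frob_exists_kernel hH
  have i := F.subtype_injective
  have n : H.map F.subtype ≤ 𝐍 (K.map F.subtype) := map_norm le_normalizer_of_normal _
  refine ⟨K.map F.subtype, by rw [← h1]; rfl, by rw [← h1, card_subtype]; rfl, ?_⟩
  have := Frob.mk' n (by rwa [Ne, map_eq_bot_iff_of_injective _ i])
    (by rw [Ne, map_eq_bot_iff_of_injective _ i]; exact hH.1)
    (h5.map F.subtype le_normalizer_of_normal)
  rwa [← Subgroup.map_sup, h3.sup_eq_top, ← MonoidHom.range_eq_map, range_subtype] at this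

theorem extra_facts (hp : p.Prime) (h : Cfsg.IsExtraspecial p P) : PiGrp {p} P ∧ ♯⁅P, P⁆ = p ∧
    ⁅P, P⁆ ≤ 𝐂 P ∧ ¬ Abel P ∧ p * (𝐂 P).relIndex P = ♯P ∧ (center P).map P.subtype = 𝐙 P ∧
      𝐙 P = ⁅P, P⁆ := by
  have := Fact.mk hp
  obtain ⟨a, b, -⟩ := CF.Solv.isExtraspecial_facts h
  refine ⟨piGrp_of_isPGroup hp h.1.1, b ▸ a, b.le.trans inf_le_right, fun c => ?_, ?_,
    CF.Solv.center_map_subtype P, b.symm⟩
  · rw [← b, der_eq_bot.2 c, card_bot] at a; exact hp.ne_one a.symm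
  · rw [← a, ← inf_relIndex_left, card_mul_relIndex inf_le_left]

end CF.BG2
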